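import Cfsg.Agent.Lib.Helper53.SpReg.Defs

set_option autoImplicit false

/-!
helper53, S2281: the action of the root elements `tauE`, `sigE` on vectors, and extensionality for
elements of the symplectic group.
-/

namespace Cfsg.Agent.Lib.Helper53.SpReg

open Matrix

variable {n : ℕ} {F : Type*} [Field F]

theorem tauE_mulVec (x : Fin n ⊕ Fin n → F) (s : F) (v : Fin n ⊕ Fin n → F) :
    ((tauE x s : Matrix.symplecticGroup (Fin n) F) :
      Matrix (Fin n ⊕ Fin n) (Fin n ⊕ Fin n) F) *ᵥ v = v + (s * Cfsg.sympForm n F v x) • x :=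
  Cfsg.Agent.Lib.Helper13.sympTransvection_mulVec x s v

theorem sigE_mulVec {x y : Fin n ⊕ Fin n → F} (hxy : Cfsg.sympForm n F x y = 0) (s : F)
    (v : Fin n ⊕ Fin n → F) :
    ((sigE x y s : Matrix.symplecticGroup (Fin n) F) :
      Matrix (Fin n ⊕ Fin n) (Fin n ⊕ Fin n) F) *ᵥ v =
      v + s • (Cfsg.sympForm n F v y • x + Cfsg.sympForm n F v x • y) := by
  rw [sigE_coe hxy, sigMat_mulVec]

theorem sigE_of_ne {x y : Fin n ⊕ Fin n → F} (hxy : Cfsg.sympForm n F x y ≠ 0) (s : F) :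
    (sigE x y s : Matrix.symplecticGroup (Fin n) F) = 1 := by
  unfold sigE
  rw [dif_neg hxy]

/-- two elements of the symplectic group that act in the same way on all vectors are equal -/
theorem sp_ext {g h : Matrix.symplecticGroup (Fin n) F}
    (hgh : ∀ v : Fin n ⊕ Fin n → F, (g : Matrix (Fin n ⊕ Fin n) (Fin n ⊕ Fin n) F) *ᵥ v =
      (h : Matrix (Fin n ⊕ Fin n) (Fin n ⊕ Fin n) F) *ᵥ v) : g = h := by
  apply Subtype.ext
  rw [Matrix.ext_iff_mulVec]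
  exact hgh

theorem mul_mulVec (g h : Matrix.symplecticGroup (Fin n) F) (v : Fin n ⊕ Fin n → F) :
    ((g * h : Matrix.symplecticGroup (Fin n) F) :
      Matrix (Fin n ⊕ Fin n) (Fin n ⊕ Fin n) F) *ᵥ v =
      (g : Matrix (Fin n ⊕ Fin n) (Fin n ⊕ Fin n) F) *ᵥ
        ((h : Matrix (Fin n ⊕ Fin n) (Fin n ⊕ Fin n) F) *ᵥ v) :=
  Cfsg.Agent.Lib.Helper13.coe_mul_mulVec g h v

theorem one_mulVec' (v : Fin n ⊕ Fin n → F) :
    ((1 : Matrix.symplecticGroup (Fin n) F) :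
      Matrix (Fin n ⊕ Fin n) (Fin n ⊕ Fin n) F) *ᵥ v = v := by
  show (1 : Matrix (Fin n ⊕ Fin n) (Fin n ⊕ Fin n) F) *ᵥ v = v
  exact Matrix.one_mulVec v

theorem inv_mulVec_mulVec (g : Matrix.symplecticGroup (Fin n) F) (v : Fin n ⊕ Fin n → F) :
    ((g⁻¹ : Matrix.symplecticGroup (Fin n) F) :
      Matrix (Fin n ⊕ Fin n) (Fin n ⊕ Fin n) F) *ᵥ
        ((g : Matrix (Fin n ⊕ Fin n) (Fin n ⊕ Fin n) F) *ᵥ v) = v := by
  rw [← mul_mulVec, inv_mul_cancel, one_mulVec']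

theorem mulVec_inv_mulVec (g : Matrix.symplecticGroup (Fin n) F) (v : Fin n ⊕ Fin n → F) :
    (g : Matrix (Fin n ⊕ Fin n) (Fin n ⊕ Fin n) F) *ᵥ
        (((g⁻¹ : Matrix.symplecticGroup (Fin n) F) :
          Matrix (Fin n ⊕ Fin n) (Fin n ⊕ Fin n) F) *ᵥ v) = v := by
  rw [← mul_mulVec, mul_inv_cancel, one_mulVec']

/-- the symplectic group preserves the form -/
theorem form_mulVec (g : Matrix.symplecticGroup (Fin n) F) (v w : Fin n ⊕ Fin n → F) :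
    Cfsg.sympForm n F ((g : Matrix (Fin n ⊕ Fin n) (Fin n ⊕ Fin n) F) *ᵥ v)
      ((g : Matrix (Fin n ⊕ Fin n) (Fin n ⊕ Fin n) F) *ᵥ w) = Cfsg.sympForm n F v w :=
  Cfsg.Agent.Lib.Helper13.sympForm_mulVec_of_mem g.2 v w

end Cfsg.Agent.Lib.Helper53.SpReg
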