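import Mathlib
import Cfsg.Prelude.Def_ClassicalGeometry
import Cfsg.Agent.Lib.Helper13.Symp
import Cfsg.Agent.Lib.Helper13.SympTrans

set_option autoImplicit false

/-!
helper53, S2281 (`Sp_2n(F)` is generated by three conjugate regular unipotent elements):
definitions.

* `RootSys F G n`: an abstract family of "long root elements" `T k s` and "short root elements"
  `S j k s` (`j k : ℤ`, `s : F`) in a group `G`, with the relations satisfied by the symplectic
  transvections `τ_{a_k}(s)` and the elements `σ_{a_j,a_k}(s)` when `a_k = u^k a` is the orbit of a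
  vector `a` with `B(a_j, a_k) = 0` for `|j - k| < n` and `B(a_j, a_{j+n}) = 1`.
* `Gen R H c`: the hypotheses on the subgroup `H` (it contains the elements
  `T k c * T j (-c)` and `S k (k+1) c * S j (j+1) (-c)` and is invariant under the shift).
* the concrete elements `tauE`, `sigE` of the symplectic group and the orbit `avec`.
* the explicit regular unipotent `uMat n` and the vector `aVec n`.
-/

namespace Cfsg.Agent.Lib.Helper53.SpReg

open Matrix

/-- abstract root elements indexed by `ℤ` with the relations of the symplectic window calculus -/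
structure RootSys (F : Type*) [Field F] (G : Type*) [Group G] (n : ℕ) where
  T : ℤ → F → G
  S : ℤ → ℤ → F → G
  sh : G ≃* G
  T_add : ∀ (k : ℤ) (s t : F), T k (s + t) = T k s * T k t
  S_add : ∀ (j k : ℤ) (s t : F), S j k (s + t) = S j k s * S j k t
  S_symm : ∀ (j k : ℤ) (s : F), S j k s = S k j s
  sh_T : ∀ (k : ℤ) (s : F), sh (T k s) = T (k + 1) s
  sh_S : ∀ (j k : ℤ) (s : F), sh (S j k s) = S (j + 1) (k + 1) s
  TT_comm : ∀ (j k : ℤ) (s t : F), |j - k| < (n : ℤ) → Commute (T j s) (T k t)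
  TS_comm : ∀ (l j k : ℤ) (t s : F), |l - j| < (n : ℤ) → |l - k| < (n : ℤ) →
    Commute (T l t) (S j k s)
  SS_comm : ∀ (j k l m : ℤ) (s t : F), |j - l| < (n : ℤ) → |j - m| < (n : ℤ) →
    |k - l| < (n : ℤ) → |k - m| < (n : ℤ) → Commute (S j k s) (S l m t)
  rel_TSp : ∀ (l k : ℤ) (s t : F), l < k → k < l + (n : ℤ) →
    T l t * S (l + (n : ℤ)) k s =
      S l k (-(s * t)) * T k (-(s ^ 2 * t)) * S (l + (n : ℤ)) k s * T l t
  rel_TSm : ∀ (l k : ℤ) (s t : F), l - (n : ℤ) < k → k < l →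
    T l t * S (l - (n : ℤ)) k s =
      S l k (s * t) * T k (-(s ^ 2 * t)) * S (l - (n : ℤ)) k s * T l t
  rel_SS : ∀ (j k m : ℤ) (s t : F), k - (n : ℤ) < j → j < k → k - (n : ℤ) < m → m < k → j ≠ m →
    S j k s * S (k - (n : ℤ)) m t = S j m (s * t) * S (k - (n : ℤ)) m t * S j k s

/-- the hypotheses on the subgroup `H` -/
structure Gen {F : Type*} [Field F] {G : Type*} [Group G] {n : ℕ} (R : RootSys F G n)
    (H : Subgroup G) (c : F) : Prop where
  sh_mem : ∀ x, R.sh x ∈ H ↔ x ∈ H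
  hD : ∀ j k : ℤ, R.T k c * R.T j (-c) ∈ H
  hE : ∀ j k : ℤ, R.S k (k + 1) c * R.S j (j + 1) (-c) ∈ H

section concrete

variable {n : ℕ} {F : Type*} [Field F]

/-- the long root element `v ↦ v + s B(v,x) x` as an element of the symplectic group -/
noncomputable abbrev tauE (x : Fin n ⊕ Fin n → F) (s : F) : Matrix.symplecticGroup (Fin n) F :=
  Cfsg.Agent.Lib.Helper13.tvElt x s

/-- the matrix of `v ↦ v + s (B(v,x) y + B(v,y) x)` -/
def sigMat (x y : Fin n ⊕ Fin n → F) (s : F) : Matrix (Fin n ⊕ Fin n) (Fin n ⊕ Fin n) F :=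
  1 + s • (Matrix.vecMulVec x (Matrix.J (Fin n) F *ᵥ y) + Matrix.vecMulVec y (Matrix.J (Fin n) F *ᵥ x))

theorem sigMat_mulVec (x y : Fin n ⊕ Fin n → F) (s : F) (v : Fin n ⊕ Fin n → F) :
    sigMat x y s *ᵥ v = v + s • (Cfsg.sympForm n F v y • x + Cfsg.sympForm n F v x • y) := by
  unfold sigMat Cfsg.sympForm
  rw [Matrix.add_mulVec, Matrix.one_mulVec, Matrix.smul_mulVec, Matrix.add_mulVec,
    Matrix.vecMulVec_mulVec, Matrix.vecMulVec_mulVec]
  rw [dotProduct_comm v, dotProduct_comm v]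
  ext i
  simp only [Pi.add_apply, Pi.smul_apply, MulOpposite.smul_eq_mul_unop, MulOpposite.unop_op,
    smul_eq_mul]
  ring

theorem sigMat_mem {x y : Fin n ⊕ Fin n → F} (h : Cfsg.sympForm n F x y = 0) (s : F) :
    sigMat x y s ∈ Matrix.symplecticGroup (Fin n) F := by
  rw [Cfsg.Agent.Lib.Helper13.mem_symplecticGroup_iff]
  intro v w
  have h' : Cfsg.sympForm n F y x = 0 := by
    rw [Cfsg.Agent.Lib.Helper13.sympForm_swap, h, neg_zero]
  rw [sigMat_mulVec, sigMat_mulVec]
  simp only [Cfsg.Agent.Lib.Helper13.sympForm_add_left, Cfsg.Agent.Lib.Helper13.sympForm_add_right,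
    Cfsg.Agent.Lib.Helper13.sympForm_smul_left, Cfsg.Agent.Lib.Helper13.sympForm_smul_right,
    Cfsg.Agent.Lib.Helper13.sympForm_self, h, h']
  rw [Cfsg.Agent.Lib.Helper13.sympForm_swap x w, Cfsg.Agent.Lib.Helper13.sympForm_swap y w]
  ring

open Classical in
/-- the short root element `σ_{x,y}(s)` as an element of the symplectic group (`1` unless
`B(x,y) = 0`) -/
noncomputable def sigE (x y : Fin n ⊕ Fin n → F) (s : F) : Matrix.symplecticGroup (Fin n) F :=
  if h : Cfsg.sympForm n F x y = 0 then ⟨sigMat x y s, sigMat_mem h s⟩ else 1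

theorem sigE_coe {x y : Fin n ⊕ Fin n → F} (h : Cfsg.sympForm n F x y = 0) (s : F) :
    ((sigE x y s : Matrix.symplecticGroup (Fin n) F) :
      Matrix (Fin n ⊕ Fin n) (Fin n ⊕ Fin n) F) = sigMat x y s := by
  unfold sigE
  rw [dif_pos h]

theorem tauE_coe (x : Fin n ⊕ Fin n → F) (s : F) :
    ((tauE x s : Matrix.symplecticGroup (Fin n) F) :
      Matrix (Fin n ⊕ Fin n) (Fin n ⊕ Fin n) F) = Cfsg.sympTransvection n x s := rfl

/-- the orbit `a_k = u^k a`, `k : ℤ` -/
noncomputable def avec (u : Matrix.symplecticGroup (Fin n) F) (a : Fin n ⊕ Fin n → F) (k : ℤ) :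
    Fin n ⊕ Fin n → F :=
  ((u ^ k : Matrix.symplecticGroup (Fin n) F) : Matrix (Fin n ⊕ Fin n) (Fin n ⊕ Fin n) F) *ᵥ a

/-- the Gram hypotheses on `(u, a)` -/
structure GoodPair (u : Matrix.symplecticGroup (Fin n) F) (a : Fin n ⊕ Fin n → F) : Prop where
  gram0 : ∀ m : ℕ, 1 ≤ m → m < n → Cfsg.sympForm n F a (avec u a m) = 0
  gram1 : Cfsg.sympForm n F a (avec u a n) = 1

/-- upper Jordan block `1 + N`, `N e_j = e_{j-1}` -/
def Amat (n : ℕ) (F : Type*) [Field F] : Matrix (Fin n) (Fin n) F :=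
  Matrix.of fun i j => if i = j then 1 else if (i : ℕ) + 1 = j then 1 else 0

/-- the inverse transpose of `Amat`: lower triangular with entries `(-1)^(i-j)` -/
def Dmat (n : ℕ) (F : Type*) [Field F] : Matrix (Fin n) (Fin n) F :=
  Matrix.of fun i j => if (j : ℕ) ≤ i then (-1) ^ ((i : ℕ) - j) else 0

/-- the lower left block: first column `(-1)^(n+i)`, zero elsewhere -/
def Cmat (n : ℕ) (F : Type*) [Field F] : Matrix (Fin n) (Fin n) F :=
  Matrix.of fun i j => if (j : ℕ) = 0 then (-1) ^ (n + (i : ℕ)) else 0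

/-- the explicit regular unipotent symplectic matrix -/
def uMat (n : ℕ) (F : Type*) [Field F] : Matrix (Fin n ⊕ Fin n) (Fin n ⊕ Fin n) F :=
  Matrix.fromBlocks (Amat n F) 0 (Cmat n F) (Dmat n F)

/-- the vector `e_{n-1}` of the first half -/
def aVec (n : ℕ) (F : Type*) [Field F] : Fin n ⊕ Fin n → F :=
  fun i => match i with
    | Sum.inl i => if (i : ℕ) + 1 = n then 1 else 0
    | Sum.inr _ => 0

end concrete

end Cfsg.Agent.Lib.Helper53.SpReg
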