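import Cfsg.Agent.Lib.Helper53.SpReg.Defs

set_option autoImplicit false

/-!
helper53, S2281: basic lemmas on `RootSys` and `Gen`.
-/

namespace Cfsg.Agent.Lib.Helper53.SpReg

variable {F : Type*} [Field F] {G : Type*} [Group G] {n : ℕ}

namespace RootSys

variable (R : RootSys F G n)

theorem T_zero (k : ℤ) : R.T k 0 = 1 := by
  have h := R.T_add k 0 0
  rw [add_zero] at h
  exact (mul_eq_left).mp h.symm

theorem S_zero (j k : ℤ) : R.S j k 0 = 1 := by
  have h := R.S_add j k 0 0
  rw [add_zero] at h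
  exact (mul_eq_left).mp h.symm

theorem T_neg (k : ℤ) (s : F) : R.T k (-s) = (R.T k s)⁻¹ := by
  rw [eq_inv_iff_mul_eq_one, ← R.T_add, neg_add_cancel, R.T_zero]

theorem S_neg (j k : ℤ) (s : F) : R.S j k (-s) = (R.S j k s)⁻¹ := by
  rw [eq_inv_iff_mul_eq_one, ← R.S_add, neg_add_cancel, R.S_zero]

theorem T_sub (k : ℤ) (s t : F) : R.T k (s - t) = R.T k s * (R.T k t)⁻¹ := by
  rw [sub_eq_add_neg, R.T_add, R.T_neg]

theorem S_sub (j k : ℤ) (s t : F) : R.S j k (s - t) = R.S j k s * (R.S j k t)⁻¹ := by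
  rw [sub_eq_add_neg, R.S_add, R.S_neg]

theorem T_self_comm (k : ℤ) (s t : F) : Commute (R.T k s) (R.T k t) := by
  unfold Commute SemiconjBy
  rw [← R.T_add, ← R.T_add, add_comm]

theorem S_self_comm (j k : ℤ) (s t : F) : Commute (R.S j k s) (R.S j k t) := by
  unfold Commute SemiconjBy
  rw [← R.S_add, ← R.S_add, add_comm]

/-- the iterated shift -/
def shz (m : ℤ) : G ≃* G := (R.sh : MulAut G) ^ m

theorem shz_T (m : ℤ) (k : ℤ) (s : F) : R.shz m (R.T k s) = R.T (k + m) s := by
  unfold shz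
  induction m using Int.induction_on generalizing k with
  | zero => simp
  | succ i ih =>
    rw [zpow_add_one, MulAut.mul_apply, R.sh_T, ih]
    congr 1; ring
  | pred i ih =>
    rw [zpow_sub_one, MulAut.mul_apply]
    have h1 : (R.sh : MulAut G)⁻¹ (R.T k s) = R.T (k - 1) s := by
      rw [MulAut.inv_apply, MulEquiv.symm_apply_eq, R.sh_T]
      congr 1; ring
    rw [h1, ih]
    congr 1; ring

theorem shz_S (m : ℤ) (j k : ℤ) (s : F) : R.shz m (R.S j k s) = R.S (j + m) (k + m) s := by
  unfold shz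
  induction m using Int.induction_on generalizing j k with
  | zero => simp
  | succ i ih =>
    rw [zpow_add_one, MulAut.mul_apply, R.sh_S, ih]
    congr 1 <;> ring
  | pred i ih =>
    rw [zpow_sub_one, MulAut.mul_apply]
    have h1 : (R.sh : MulAut G)⁻¹ (R.S j k s) = R.S (j - 1) (k - 1) s := by
      rw [MulAut.inv_apply, MulEquiv.symm_apply_eq, R.sh_S]
      congr 1 <;> ring
    rw [h1, ih]
    congr 1 <;> ring

/-- the additive group of the parameters `s` with `T k s ∈ H` -/
def Tset (H : Subgroup G) (k : ℤ) : AddSubgroup F where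
  carrier := {s | R.T k s ∈ H}
  zero_mem' := by
    show R.T k 0 ∈ H
    rw [R.T_zero]; exact H.one_mem
  add_mem' := by
    intro s t hs ht
    show R.T k (s + t) ∈ H
    rw [R.T_add]; exact H.mul_mem hs ht
  neg_mem' := by
    intro s hs
    show R.T k (-s) ∈ H
    rw [R.T_neg]; exact H.inv_mem hs

/-- the additive group of the parameters `s` with `S j k s ∈ H` -/
def Sset (H : Subgroup G) (j k : ℤ) : AddSubgroup F where
  carrier := {s | R.S j k s ∈ H}
  zero_mem' := by
    show R.S j k 0 ∈ H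
    rw [R.S_zero]; exact H.one_mem
  add_mem' := by
    intro s t hs ht
    show R.S j k (s + t) ∈ H
    rw [R.S_add]; exact H.mul_mem hs ht
  neg_mem' := by
    intro s hs
    show R.S j k (-s) ∈ H
    rw [R.S_neg]; exact H.inv_mem hs

theorem mem_Tset (H : Subgroup G) (k : ℤ) (s : F) : s ∈ R.Tset H k ↔ R.T k s ∈ H := Iff.rfl

theorem mem_Sset (H : Subgroup G) (j k : ℤ) (s : F) : s ∈ R.Sset H j k ↔ R.S j k s ∈ H := Iff.rfl

/-- the product relation: `S j k s, S (k-n) m t ∈ H ⇒ S j m (s t) ∈ H` -/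
theorem prod_mem (H : Subgroup G) (j k m : ℤ) (hj1 : k - n < j) (hj2 : j < k) (hm1 : k - n < m) (hm2 : m < k)
    (hjm : j ≠ m) (s t : F) (hs : R.S j k s ∈ H) (ht : R.S (k - n) m t ∈ H) :
    R.S j m (s * t) ∈ H := by
  have hrel := R.rel_SS j k m s t hj1 hj2 hm1 hm2 hjm
  have : R.S j m (s * t) = R.S j k s * R.S (k - n) m t * (R.S j k s)⁻¹ * (R.S (k - n) m t)⁻¹ := by
    rw [hrel]; group
  rw [this]
  exact H.mul_mem (H.mul_mem (H.mul_mem hs ht) (H.inv_mem hs)) (H.inv_mem ht)

end RootSys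

namespace Gen

variable {R : RootSys F G n} {H : Subgroup G} {c : F} (h : Gen R H c)
include h

theorem shz_mem (m : ℤ) (x : G) : R.shz m x ∈ H ↔ x ∈ H := by
  unfold RootSys.shz
  induction m using Int.induction_on generalizing x with
  | zero => simp
  | succ i ih =>
    rw [zpow_add_one, MulAut.mul_apply, ih]
    exact h.sh_mem x
  | pred i ih =>
    rw [zpow_sub_one, MulAut.mul_apply, ih]
    rw [← h.sh_mem ((R.sh : MulAut G)⁻¹ x)]
    rw [MulAut.inv_apply, MulEquiv.apply_symm_apply]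

/-- membership of a long root element only depends on the parameter -/
theorem T_mem_shift (k k' : ℤ) (s : F) : R.T k s ∈ H ↔ R.T k' s ∈ H := by
  rw [← h.shz_mem (k' - k) (R.T k s), R.shz_T]
  have : k + (k' - k) = k' := by ring
  rw [this]

/-- membership of a short root element only depends on the difference of the indices -/
theorem S_mem_shift (j k : ℤ) (m : ℤ) (s : F) : R.S j k s ∈ H ↔ R.S (j + m) (k + m) s ∈ H := by
  rw [← h.shz_mem m (R.S j k s), R.shz_S]

end Gen

end Cfsg.Agent.Lib.Helper53.SpReg
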