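import Cfsg.Agent.Lib.Helper53.SpReg.Basic
import Cfsg.Agent.Lib.Helper45.SpRegWYPure
import Cfsg.Agent.Lib.Helper51.SpRegAlg1
import Cfsg.Agent.Lib.Helper51.SpRegAlgT
import Cfsg.Agent.Lib.Helper87.SpRegMix

set_option autoImplicit false

/-!
helper53, S2281: the abstract main theorems (assembly of the abstract modules).
-/

namespace Cfsg.Agent.Lib.Helper53.SpReg

open Cfsg.Agent.Lib.Helper45.SpReg Cfsg.Agent.Lib.Helper51.SpReg Cfsg.Agent.Lib.Helper87.SpReg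

variable {F : Type*} [Field F] {G : Type*} [Group G] {n : ℕ}
variable {R : RootSys F G n} {H : Subgroup G} {c : F}

namespace Gen

/-- membership of `S j k s` only depends on `k - j` -/
theorem S_mem_iff (h : Gen R H c) (j k j' k' : ℤ) (hjk : k - j = k' - j') (s : F) :
    R.S j k s ∈ H ↔ R.S j' k' s ∈ H := by
  rw [h.S_mem_shift j k (j' - j) s]
  have h1 : j + (j' - j) = j' := by ring
  have h2 : k + (j' - j) = k' := by linarith
  rw [h1, h2]

/-- membership of `S j k s` only depends on `|k - j|` -/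
theorem S_mem_iff' (h : Gen R H c) (j k j' k' : ℤ) (hjk : k - j = j' - k') (s : F) :
    R.S j k s ∈ H ↔ R.S j' k' s ∈ H := by
  rw [R.S_symm j' k' s]
  exact h.S_mem_iff j k k' j' hjk s

end Gen

section n3

variable [Fintype F]

/-- [ABS3] -/
theorem all_mem_of_gen3 (hn : 3 ≤ n) (c : F) (hc : c ≠ 0)
    (hgen : ∀ y : F, y ≠ 0 → ∃ j : ℕ, y = c ^ j) (R : RootSys F G n) (H : Subgroup G)
    (h : Gen R H c) :
    (∀ (k : ℤ) (s : F), R.T k s ∈ H) ∧
      (∀ (j k : ℤ), j ≠ k → |j - k| < (n : ℤ) → ∀ s : F, R.S j k s ∈ H) := by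
  have hn' : (3 : ℤ) ≤ (n : ℤ) := by exact_mod_cast hn
  -- Step 1: `R_1 = F`
  have hR1 : R.Sset H 0 1 = ⊤ := by
    apply alg_R1 c hc hgen (R.Sset H 0 1) (R.Sset H 0 ((n : ℤ) - 2))
    · rw [R.mem_Sset]
      rw [h.S_mem_iff 0 ((n : ℤ) - 2) 1 ((n : ℤ) - 1) (by ring)]
      exact pure_mem hn h
    · intro s hs
      rw [R.mem_Sset] at hs ⊢
      have h1 : R.S ((n : ℤ) - (n : ℤ)) 1 s ∈ H := by
        rw [sub_self]; exact hs
      have h2 := cmul_mem hn h (n : ℤ) 1 (by linarith) (by linarith) s h1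
      rw [h.S_mem_iff' 0 ((n : ℤ) - 2) ((n : ℤ) - 1) 1 (by ring)]
      exact h2
    · intro s hs
      rw [R.mem_Sset] at hs ⊢
      have h1 : R.S ((n : ℤ) - (n : ℤ)) ((n : ℤ) - 2) s ∈ H := by
        rw [sub_self]; exact hs
      have h2 := cmul_mem hn h (n : ℤ) ((n : ℤ) - 2) (by linarith) (by linarith) s h1
      rw [h.S_mem_iff' 0 1 ((n : ℤ) - 1) ((n : ℤ) - 2) (by ring)]
      exact h2
    · intro s hs t ht
      rw [R.mem_Sset] at hs ht ⊢
      have h1 : R.S ((n : ℤ) - 1) (n : ℤ) s ∈ H := by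
        rw [← h.S_mem_iff 0 1 ((n : ℤ) - 1) (n : ℤ) (by ring)]; exact hs
      have h2 : R.S ((n : ℤ) - (n : ℤ)) ((n : ℤ) - 2) t ∈ H := by
        rw [sub_self]; exact ht
      have h3 := R.prod_mem H ((n : ℤ) - 1) (n : ℤ) ((n : ℤ) - 2) (by linarith) (by linarith)
        (by linarith) (by linarith) (by intro hh; linarith) s t h1 h2
      rw [h.S_mem_iff' 0 1 ((n : ℤ) - 1) ((n : ℤ) - 2) (by ring)]
      exact h3
  have hS1 : ∀ (j : ℤ) (s : F), R.S j (j + 1) s ∈ H := by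
    intro j s
    rw [← h.S_mem_iff 0 1 j (j + 1) (by ring)]
    rw [← R.mem_Sset, hR1]; exact AddSubgroup.mem_top s
  -- Step 2: `c^5 ∈ T`
  have hT5 : ∀ k : ℤ, R.T k (c ^ 5) ∈ H := by
    intro k
    rw [h.T_mem_shift k 1]
    have hY := Y0_mem (by omega) h
    have h1 : R.S 0 1 (c ^ 3) ∈ H := by
      have := hS1 0 (c ^ 3); rwa [zero_add] at this
    have h2 : R.T 1 (-(c ^ 5)) ∈ H := by
      have := H.mul_mem (H.inv_mem h1) hY
      rwa [inv_mul_cancel_left] at this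
    rw [R.T_neg] at h2
    exact (Subgroup.inv_mem_iff H).mp h2
  -- Step 3: the mixed subgroup
  have hcomm : ∀ p r p' r' : F, R.S 0 ((n : ℤ) - 1) p * R.T ((n : ℤ) - 1) r *
      (R.S 0 ((n : ℤ) - 1) p' * R.T ((n : ℤ) - 1) r') =
      R.S 0 ((n : ℤ) - 1) (p + p') * R.T ((n : ℤ) - 1) (r + r') := by
    intro p r p' r'
    have hc1 : Commute (R.T ((n : ℤ) - 1) r) (R.S 0 ((n : ℤ) - 1) p') :=
      R.TS_comm _ _ _ _ _ (by rw [abs_lt]; constructor <;> linarith)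
        (by rw [abs_lt]; constructor <;> linarith)
    rw [R.S_add, R.T_add]
    calc R.S 0 ((n : ℤ) - 1) p * R.T ((n : ℤ) - 1) r *
        (R.S 0 ((n : ℤ) - 1) p' * R.T ((n : ℤ) - 1) r')
        = R.S 0 ((n : ℤ) - 1) p * (R.T ((n : ℤ) - 1) r * R.S 0 ((n : ℤ) - 1) p') *
          R.T ((n : ℤ) - 1) r' := by group
      _ = R.S 0 ((n : ℤ) - 1) p * (R.S 0 ((n : ℤ) - 1) p' * R.T ((n : ℤ) - 1) r) *
          R.T ((n : ℤ) - 1) r' := by rw [hc1.eq]
      _ = _ := by group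
  let M : AddSubgroup (F × F) :=
    { carrier := {x | R.S 0 ((n : ℤ) - 1) x.1 * R.T ((n : ℤ) - 1) x.2 ∈ H}
      zero_mem' := by
        show R.S 0 ((n : ℤ) - 1) 0 * R.T ((n : ℤ) - 1) 0 ∈ H
        rw [R.S_zero, R.T_zero, one_mul]; exact H.one_mem
      add_mem' := by
        intro x y hx hy
        show R.S 0 ((n : ℤ) - 1) (x.1 + y.1) * R.T ((n : ℤ) - 1) (x.2 + y.2) ∈ H
        rw [← hcomm]; exact H.mul_mem hx hy
      neg_mem' := by
        intro x hx
        show R.S 0 ((n : ℤ) - 1) (-x.1) * R.T ((n : ℤ) - 1) (-x.2) ∈ H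
        have h0 := hcomm x.1 x.2 (-x.1) (-x.2)
        rw [add_neg_cancel, add_neg_cancel, R.S_zero, R.T_zero, one_mul] at h0
        have : R.S 0 ((n : ℤ) - 1) (-x.1) * R.T ((n : ℤ) - 1) (-x.2) =
            (R.S 0 ((n : ℤ) - 1) x.1 * R.T ((n : ℤ) - 1) x.2)⁻¹ :=
          eq_inv_of_mul_eq_one_right h0
        rw [this]; exact H.inv_mem hx }
  have hMmem : ∀ p r : F, (p, r) ∈ M ↔ R.S 0 ((n : ℤ) - 1) p * R.T ((n : ℤ) - 1) r ∈ H :=
    fun p r => Iff.rfl
  have hmix : ∀ t : F, R.T 0 t * R.T 1 (-t) ∈ H → ∀ s : F, (-(s * t), -(s ^ 2 * t)) ∈ M := by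
    intro t ht s
    rw [hMmem]
    apply mix_mem (by omega) h 0 s t ht
    rw [R.T_zero, one_mul]
    rw [← h.S_mem_iff' 0 1 (n : ℤ) ((n : ℤ) - 1) (by ring)]
    have := hS1 0 s; rwa [zero_add] at this
  have hM : M = ⊤ := by
    apply alg_T c hc hgen M
    · rw [hMmem, R.S_zero, one_mul]; exact hT5 _
    · intro s
      have := hmix c (h.hD 1 0) s
      exact this
    · intro s
      apply hmix (c ^ 5)
      refine H.mul_mem (hT5 0) ?_
      rw [R.T_neg]; exact H.inv_mem (hT5 1)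
  have hTall : ∀ (k : ℤ) (s : F), R.T k s ∈ H := by
    intro k s
    rw [h.T_mem_shift k ((n : ℤ) - 1)]
    have : ((0 : F), s) ∈ M := by rw [hM]; exact AddSubgroup.mem_top _
    rw [hMmem, R.S_zero, one_mul] at this
    exact this
  have hSn1 : ∀ s : F, R.S 0 ((n : ℤ) - 1) s ∈ H := by
    intro s
    have : (s, (0 : F)) ∈ M := by rw [hM]; exact AddSubgroup.mem_top _
    rw [hMmem, R.T_zero, mul_one] at this
    exact this
  -- Step 4: descending induction on the width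
  have hdesc : ∀ d : ℕ, d + 1 < n → ∀ s : F, R.S 0 ((n : ℤ) - 1 - d) s ∈ H := by
    intro d
    induction d with
    | zero =>
      intro _ s
      simpa using hSn1 s
    | succ d ih =>
      intro hd s
      have hd' : ((d : ℤ) + 1) + 1 < (n : ℤ) := by exact_mod_cast hd
      have h1 : R.S 1 (n : ℤ) 1 ∈ H := by
        rw [← h.S_mem_iff 0 ((n : ℤ) - 1) 1 (n : ℤ) (by ring)]; exact hSn1 1
      have h2 : R.S ((n : ℤ) - (n : ℤ)) ((n : ℤ) - 1 - d) s ∈ H := by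
        rw [sub_self]; exact ih (by omega) s
      have h3 := R.prod_mem H 1 (n : ℤ) ((n : ℤ) - 1 - d) (by linarith) (by linarith)
        (by linarith) (by linarith) (by intro hh; linarith) 1 s h1 h2
      rw [one_mul] at h3
      rw [h.S_mem_iff 0 ((n : ℤ) - 1 - ((d + 1 : ℕ) : ℤ)) 1 ((n : ℤ) - 1 - d) (by push_cast; ring)]
      exact h3
  refine ⟨hTall, ?_⟩
  -- all short root elements
  have hpos : ∀ (j k : ℤ), j < k → k - j < (n : ℤ) → ∀ s : F, R.S j k s ∈ H := by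
    intro j k hjk hkn s
    obtain ⟨d, hd⟩ : ∃ d : ℕ, (d : ℤ) = (n : ℤ) - 1 - (k - j) := by
      refine ⟨((n : ℤ) - 1 - (k - j)).toNat, ?_⟩
      rw [Int.toNat_of_nonneg]; linarith
    have hdn : d + 1 < n := by
      have : (d : ℤ) + 1 < (n : ℤ) := by linarith
      exact_mod_cast this
    rw [← h.S_mem_iff 0 ((n : ℤ) - 1 - d) j k (by rw [hd]; ring)]
    exact hdesc d hdn s
  intro j k hjk habs s
  rw [abs_lt] at habs
  rcases lt_or_gt_of_ne hjk with hlt | hgt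
  · exact hpos j k hlt (by linarith) s
  · rw [R.S_symm]
    exact hpos k j hgt (by linarith) s

end n3

end Cfsg.Agent.Lib.Helper53.SpReg
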