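import Cfsg.Agent.Lib.Helper53.SpReg.Basic
import Cfsg.Agent.Lib.Helper45.SpRegWYPure
import Cfsg.Agent.Lib.Helper51.SpRegAlgN2
import Cfsg.Agent.Lib.Helper87.SpRegMix

set_option autoImplicit false

/-!
helper53, S2281: the abstract main theorem for `n = 2`.
-/

namespace Cfsg.Agent.Lib.Helper53.SpReg

open Cfsg.Agent.Lib.Helper45.SpReg Cfsg.Agent.Lib.Helper51.SpReg Cfsg.Agent.Lib.Helper87.SpReg

variable {F : Type*} [Field F] {G : Type*} [Group G]

section n2

variable [Fintype F]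

/-- [ABS2] -/
theorem all_mem_of_gen2 (hF : Fintype.card F ≠ 2) (c : F) (hc : c ≠ 0)
    (hgen : ∀ y : F, y ≠ 0 → ∃ j : ℕ, y = c ^ j) (R : RootSys F G 2) (H : Subgroup G)
    (h : Gen R H c) :
    (∀ (k : ℤ) (s : F), R.T k s ∈ H) ∧
      (∀ (j k : ℤ), j ≠ k → |j - k| < ((2 : ℕ) : ℤ) → ∀ s : F, R.S j k s ∈ H) := by
  have e1 : ((2 : ℕ) : ℤ) - 1 = 1 := by norm_num
  have e2 : ((2 : ℕ) : ℤ) = 2 := by norm_num
  have e3 : ((2 : ℕ) : ℤ) + 1 = 3 := by norm_num
  have c12 : ∀ s t : F, Commute (R.T 1 s) (R.T 2 t) :=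
    fun s t => R.TT_comm 1 2 s t (by norm_num)
  have c1S : ∀ t s : F, Commute (R.T 1 t) (R.S 1 2 s) :=
    fun t s => R.TS_comm 1 1 2 t s (by norm_num) (by norm_num)
  have c2S : ∀ t s : F, Commute (R.T 2 t) (R.S 1 2 s) :=
    fun t s => R.TS_comm 2 1 2 t s (by norm_num) (by norm_num)
  -- the element attached to a triple
  set e : F × F × F → G := fun x => R.T 1 x.1 * R.T 2 x.2.1 * R.S 1 2 x.2.2 with he
  have he_add : ∀ x y : F × F × F, e (x + y) = e x * e y := by
    intro x y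
    show R.T 1 (x.1 + y.1) * R.T 2 (x.2.1 + y.2.1) * R.S 1 2 (x.2.2 + y.2.2) =
      R.T 1 x.1 * R.T 2 x.2.1 * R.S 1 2 x.2.2 * (R.T 1 y.1 * R.T 2 y.2.1 * R.S 1 2 y.2.2)
    rw [R.T_add, R.T_add, R.S_add]
    rw [Commute.mul_mul_mul_comm (c12 y.1 x.2.1).symm.symm]
    · rw [Commute.mul_mul_mul_comm]
      exact ((c1S y.1 x.2.2).mul_left (c2S y.2.1 x.2.2))
  have he_zero : e 0 = 1 := by
    show R.T 1 0 * R.T 2 0 * R.S 1 2 0 = 1
    rw [R.T_zero, R.T_zero, R.S_zero, one_mul, one_mul]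
  let M : AddSubgroup (F × F × F) :=
    { carrier := {x | e x ∈ H}
      zero_mem' := by
        show e 0 ∈ H
        rw [he_zero]; exact H.one_mem
      add_mem' := by
        intro x y hx hy
        show e (x + y) ∈ H
        rw [he_add]; exact H.mul_mem hx hy
      neg_mem' := by
        intro x hx
        show e (-x) ∈ H
        have h0 := he_add x (-x)
        rw [add_neg_cancel, he_zero] at h0
        have : e (-x) = (e x)⁻¹ := eq_inv_of_mul_eq_one_right h0.symm
        rw [this]; exact H.inv_mem hx }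
  have hMmem : ∀ p q r : F, (p, q, r) ∈ M ↔ R.T 1 p * R.T 2 q * R.S 1 2 r ∈ H :=
    fun p q r => Iff.rfl
  have hM : M = ⊤ := by
    apply alg_N2 hF c hc hgen M
    · -- ha1
      rw [hMmem, R.T_zero, mul_one]
      have := W0_mem (le_refl 2) h
      rw [e2, R.S_symm 2 1] at this
      rw [(c1S _ _).eq]; exact this
    · -- ha2
      rw [hMmem, R.T_zero, one_mul]
      have := W0'_mem (le_refl 2) h
      rw [e2] at this
      rw [(c2S _ _).eq]; exact this
    · -- hc1
      rw [hMmem, R.S_zero, mul_one]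
      exact h.hD 2 1
    · -- hb1
      intro t r s ht hx
      rw [hMmem, R.S_zero, mul_one] at ht
      rw [hMmem, R.T_zero, mul_one] at hx
      rw [hMmem, R.T_zero, one_mul]
      have ht' : R.T 0 t * R.T 1 (-t) ∈ H := by
        rw [← h.shz_mem 1, map_mul, R.shz_T, R.shz_T]
        simpa using ht
      have hx' : R.T (((2 : ℕ) : ℤ) - 1) r * R.S ((2 : ℕ) : ℤ) (((2 : ℕ) : ℤ) - 1) s ∈ H := by
        rw [e1, e2, R.S_symm 2 1]; exact hx
      have hm := mix_mem (le_refl 2) h r s t ht' hx'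
      rw [e1] at hm
      rw [← h.shz_mem 1, map_mul, R.shz_S, R.shz_T] at hm
      have hm' : R.S 1 2 (-(s * t)) * R.T 2 (-(s ^ 2 * t)) ∈ H := by simpa using hm
      rw [(c2S _ _).eq]; exact hm'
    · -- hb2
      intro t r s ht hx
      rw [hMmem, R.S_zero, mul_one] at ht
      rw [hMmem, R.T_zero, one_mul] at hx
      rw [hMmem, R.T_zero, mul_one]
      have ht' : R.T (((2 : ℕ) : ℤ) + 1) t * R.T ((2 : ℕ) : ℤ) (-t) ∈ H := by
        rw [e3, e2]
        have h1 : R.T 2 t * R.T 1 (-t) ∈ H := by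
          have := H.inv_mem ht
          rw [mul_inv_rev, ← R.T_neg, ← R.T_neg, neg_neg] at this
          exact this
        rw [← h.shz_mem 1, map_mul, R.shz_T, R.shz_T] at h1
        simpa using h1
      have hm := mix'_mem (le_refl 2) h r s t ht' hx
      rw [e3] at hm
      rw [← h.shz_mem (-1), map_mul, R.shz_S, R.shz_T] at hm
      have hm' : R.S 2 1 (s * t) * R.T 1 (-(s ^ 2 * t)) ∈ H := by simpa using hm
      rw [R.S_symm 2 1] at hm'
      rw [(c1S _ _).eq]; exact hm'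
  have hT1 : ∀ s : F, R.T 1 s ∈ H := by
    intro s
    have : (s, (0 : F), (0 : F)) ∈ M := by rw [hM]; exact AddSubgroup.mem_top _
    rw [hMmem, R.T_zero, R.S_zero, mul_one, mul_one] at this
    exact this
  have hS12 : ∀ s : F, R.S 1 2 s ∈ H := by
    intro s
    have : ((0 : F), (0 : F), s) ∈ M := by rw [hM]; exact AddSubgroup.mem_top _
    rw [hMmem, R.T_zero, R.T_zero, one_mul, one_mul] at this
    exact this
  refine ⟨fun k s => (h.T_mem_shift k 1 s).mpr (hT1 s), ?_⟩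
  intro j k hjk habs s
  rw [e2, abs_lt] at habs
  rcases lt_or_gt_of_ne hjk with hlt | hgt
  · have hk : k = j + 1 := by omega
    subst hk
    have := (h.S_mem_shift 1 2 (j - 1) s).mp (hS12 s)
    have h1 : (1 : ℤ) + (j - 1) = j := by ring
    have h2 : (2 : ℤ) + (j - 1) = j + 1 := by ring
    rwa [h1, h2] at this
  · have hk : j = k + 1 := by omega
    subst hk
    rw [R.S_symm]
    have := (h.S_mem_shift 1 2 (k - 1) s).mp (hS12 s)
    have h1 : (1 : ℤ) + (k - 1) = k := by ring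
    have h2 : (2 : ℤ) + (k - 1) = k + 1 := by ring
    rwa [h1, h2] at this

end n2

end Cfsg.Agent.Lib.Helper53.SpReg
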