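import Cfsg.Agent.Lib.Helper53.SpReg.Act

set_option autoImplicit false

/-!
helper53, S2411 (`PSp_2m(q)` is generated by two elements): elements of the symplectic group acting
as a given `2 × 2` matrix of determinant one on a hyperbolic plane `⟨w, w'⟩` (`B(w,w') = 1`) and
as the identity on its orthogonal complement.
-/

namespace Cfsg.Agent.Lib.Helper53.SpReg

open Matrix Cfsg.Agent.Lib.Helper13

variable {n : ℕ} {F : Type*} [Field F]

local notation "Vn" => Fin n ⊕ Fin n → F
local notation "Bf" => Cfsg.sympForm n F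

/-- the matrix of `v ↦ v + B(v,w') ((p-1) w + r w') - B(v,w) (q w + (t-1) w')`; on the plane
`⟨w,w'⟩` with `B(w,w') = 1` this is `w ↦ p w + r w'`, `w' ↦ q w + t w'` -/
def hypMat (w w' : Vn) (p q r t : F) : Matrix (Fin n ⊕ Fin n) (Fin n ⊕ Fin n) F :=
  1 + Matrix.vecMulVec ((p - 1) • w + r • w') (Matrix.J (Fin n) F *ᵥ w')
    - Matrix.vecMulVec (q • w + (t - 1) • w') (Matrix.J (Fin n) F *ᵥ w)

theorem hypMat_mulVec (w w' : Vn) (p q r t : F) (v : Vn) :
    hypMat w w' p q r t *ᵥ v =
      v + Bf v w' • ((p - 1) • w + r • w') - Bf v w • (q • w + (t - 1) • w') := by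
  unfold hypMat Cfsg.sympForm
  rw [Matrix.sub_mulVec, Matrix.add_mulVec, Matrix.one_mulVec, Matrix.vecMulVec_mulVec,
    Matrix.vecMulVec_mulVec]
  rw [dotProduct_comm v, dotProduct_comm v]
  ext i
  simp only [Pi.add_apply, Pi.sub_apply, Pi.smul_apply, MulOpposite.smul_eq_mul_unop,
    MulOpposite.unop_op, smul_eq_mul]
  ring

theorem hypMat_mem {w w' : Vn} (hw : Bf w w' = 1) {p q r t : F} (hdet : p * t - q * r = 1) :
    hypMat w w' p q r t ∈ Matrix.symplecticGroup (Fin n) F := by
  rw [mem_symplecticGroup_iff]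
  intro v v'
  have hw' : Bf w' w = -1 := by rw [sympForm_swap, hw]
  rw [hypMat_mulVec, hypMat_mulVec]
  simp only [sympForm_add_left, sympForm_add_right, sympForm_sub_left, sympForm_sub_right,
    sympForm_smul_left, sympForm_smul_right, sympForm_self, hw, hw']
  rw [sympForm_swap w v', sympForm_swap w' v']
  linear_combination (Bf v' w' * Bf v w - Bf v w' * Bf v' w) * hdet

/-- the element of the symplectic group attached to a hyperbolic pair and a matrix of determinant
one -/
def hypE (w w' : Vn) (hw : Bf w w' = 1) (p q r t : F) (hdet : p * t - q * r = 1) :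
    Matrix.symplecticGroup (Fin n) F :=
  ⟨hypMat w w' p q r t, hypMat_mem hw hdet⟩

theorem hypE_mulVec (w w' : Vn) (hw : Bf w w' = 1) (p q r t : F) (hdet : p * t - q * r = 1)
    (v : Vn) :
    ((hypE w w' hw p q r t hdet : Matrix.symplecticGroup (Fin n) F) :
      Matrix (Fin n ⊕ Fin n) (Fin n ⊕ Fin n) F) *ᵥ v =
      v + Bf v w' • ((p - 1) • w + r • w') - Bf v w • (q • w + (t - 1) • w') :=
  hypMat_mulVec w w' p q r t v

/-- a vector orthogonal to the plane is fixed -/
theorem hypE_fix (w w' : Vn) (hw : Bf w w' = 1) (p q r t : F) (hdet : p * t - q * r = 1)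
    (v : Vn) (h1 : Bf v w = 0) (h2 : Bf v w' = 0) :
    ((hypE w w' hw p q r t hdet : Matrix.symplecticGroup (Fin n) F) :
      Matrix (Fin n ⊕ Fin n) (Fin n ⊕ Fin n) F) *ᵥ v = v := by
  rw [hypE_mulVec, h1, h2, zero_smul, zero_smul, add_zero, sub_zero]

/-- the form of the image with `w'` and `w` -/
theorem hypE_form_w' (w w' : Vn) (hw : Bf w w' = 1) (p q r t : F) (hdet : p * t - q * r = 1)
    (v : Vn) :
    Bf (((hypE w w' hw p q r t hdet : Matrix.symplecticGroup (Fin n) F) :
      Matrix (Fin n ⊕ Fin n) (Fin n ⊕ Fin n) F) *ᵥ v) w' = p * Bf v w' - q * Bf v w := by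
  rw [hypE_mulVec]
  simp only [sympForm_add_left, sympForm_sub_left, sympForm_smul_left, sympForm_self, hw]
  ring

theorem hypE_form_w (w w' : Vn) (hw : Bf w w' = 1) (p q r t : F) (hdet : p * t - q * r = 1)
    (v : Vn) :
    Bf (((hypE w w' hw p q r t hdet : Matrix.symplecticGroup (Fin n) F) :
      Matrix (Fin n ⊕ Fin n) (Fin n ⊕ Fin n) F) *ᵥ v) w = t * Bf v w - r * Bf v w' := by
  have hw' : Bf w' w = -1 := by rw [sympForm_swap, hw]
  rw [hypE_mulVec]
  simp only [sympForm_add_left, sympForm_sub_left, sympForm_smul_left, sympForm_self, hw']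
  ring

end Cfsg.Agent.Lib.Helper53.SpReg
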