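import Cfsg.Agent.Lib.Helper53.SpReg.Basic
import Cfsg.Agent.Lib.Helper53.SpReg.Act
import Cfsg.Agent.Lib.Helper14.SpRegCalcComm
import Cfsg.Agent.Lib.Helper25.SpRegCalcRel
import Cfsg.Agent.Lib.Helper11.SpRegGram

set_option autoImplicit false

/-!
helper53, S2281: the concrete root system attached to a good pair `(u, a)` (hedge of [INST]).
-/

namespace Cfsg.Agent.Lib.Helper53.SpReg

open Matrix

variable {n : ℕ} {F : Type*} [Field F]

section
variable {u : Matrix.symplecticGroup (Fin n) F} {a : Fin n ⊕ Fin n → F}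

theorem gram_neg_one (hp : GoodPair u a) (j : ℤ) :
    Cfsg.sympForm n F (avec u a (j + n)) (avec u a j) = -1 := by
  rw [Cfsg.Agent.Lib.Helper13.sympForm_swap, Cfsg.Agent.Lib.Helper11.SpReg.gram_one hp]

theorem gram_zero' (hp : GoodPair u a) (j k : ℤ) (h1 : -(n : ℤ) < j - k) (h2 : j - k < (n : ℤ)) :
    Cfsg.sympForm n F (avec u a j) (avec u a k) = 0 :=
  Cfsg.Agent.Lib.Helper11.SpReg.gram_zero hp j k (by rw [abs_lt]; exact ⟨h1, h2⟩)

/-- [INST] the concrete root system -/
noncomputable def rootSys (hp : GoodPair u a) :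
    RootSys F (Matrix.symplecticGroup (Fin n) F) n where
  T k s := tauE (avec u a k) s
  S j k s := sigE (avec u a j) (avec u a k) s
  sh := MulAut.conj u
  T_add k s t := Cfsg.Agent.Lib.Helper14.SpReg.tauE_add _ s t
  S_add j k s t := Cfsg.Agent.Lib.Helper14.SpReg.sigE_add _ _ s t
  S_symm j k s := Cfsg.Agent.Lib.Helper14.SpReg.sigE_symm _ _ s
  sh_T k s := by
    rw [MulAut.conj_apply, Cfsg.Agent.Lib.Helper14.SpReg.conj_tauE,
      Cfsg.Agent.Lib.Helper11.SpReg.avec_succ]
  sh_S j k s := by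
    rw [MulAut.conj_apply, Cfsg.Agent.Lib.Helper14.SpReg.conj_sigE,
      Cfsg.Agent.Lib.Helper11.SpReg.avec_succ, Cfsg.Agent.Lib.Helper11.SpReg.avec_succ]
  TT_comm j k s t h :=
    Cfsg.Agent.Lib.Helper14.SpReg.tau_tau_comm _ _
      (Cfsg.Agent.Lib.Helper11.SpReg.gram_zero hp j k h) s t
  TS_comm l j k t s h1 h2 :=
    Cfsg.Agent.Lib.Helper14.SpReg.tau_sig_comm _ _ _
      (Cfsg.Agent.Lib.Helper11.SpReg.gram_zero hp j l (by rw [abs_sub_comm]; exact h1))
      (Cfsg.Agent.Lib.Helper11.SpReg.gram_zero hp k l (by rw [abs_sub_comm]; exact h2)) s t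
  SS_comm j k l m s t h1 h2 h3 h4 :=
    Cfsg.Agent.Lib.Helper14.SpReg.sig_sig_comm _ _ _ _
      (Cfsg.Agent.Lib.Helper11.SpReg.gram_zero hp j l h1)
      (Cfsg.Agent.Lib.Helper11.SpReg.gram_zero hp j m h2)
      (Cfsg.Agent.Lib.Helper11.SpReg.gram_zero hp k l h3)
      (Cfsg.Agent.Lib.Helper11.SpReg.gram_zero hp k m h4) s t
  rel_TSp l k s t h1 h2 := by
    have hxy : Cfsg.sympForm n F (avec u a (l + n)) (avec u a k) = 0 :=
      gram_zero' hp _ _ (by linarith) (by linarith)
    have hyz : Cfsg.sympForm n F (avec u a k) (avec u a l) = 0 :=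
      gram_zero' hp _ _ (by linarith) (by linarith)
    have hrel := Cfsg.Agent.Lib.Helper25.SpReg.tau_sig_rel (avec u a (l + n)) (avec u a k)
      (avec u a l) hxy hyz s t
    rw [gram_neg_one hp l] at hrel
    have e1 : s * t * (-1 : F) = -(s * t) := by ring
    have e2 : -(s ^ 2 * t * (-1 : F) ^ 2) = -(s ^ 2 * t) := by ring
    rw [e1, e2] at hrel
    exact hrel
  rel_TSm l k s t h1 h2 := by
    have hxy : Cfsg.sympForm n F (avec u a (l - n)) (avec u a k) = 0 :=
      gram_zero' hp _ _ (by linarith) (by linarith)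
    have hyz : Cfsg.sympForm n F (avec u a k) (avec u a l) = 0 :=
      gram_zero' hp _ _ (by linarith) (by linarith)
    have hrel := Cfsg.Agent.Lib.Helper25.SpReg.tau_sig_rel (avec u a (l - n)) (avec u a k)
      (avec u a l) hxy hyz s t
    have hone : Cfsg.sympForm n F (avec u a (l - n)) (avec u a l) = 1 := by
      have := Cfsg.Agent.Lib.Helper11.SpReg.gram_one hp (l - n)
      rwa [sub_add_cancel] at this
    rw [hone] at hrel
    have e1 : s * t * (1 : F) = s * t := by ring
    have e2 : -(s ^ 2 * t * (1 : F) ^ 2) = -(s ^ 2 * t) := by ring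
    rw [e1, e2] at hrel
    exact hrel
  rel_SS j k m s t h1 h2 h3 h4 hjm := by
    have hxy : Cfsg.sympForm n F (avec u a j) (avec u a k) = 0 :=
      gram_zero' hp _ _ (by linarith) (by linarith)
    have hzw : Cfsg.sympForm n F (avec u a (k - n)) (avec u a m) = 0 :=
      gram_zero' hp _ _ (by linarith) (by linarith)
    have hxz : Cfsg.sympForm n F (avec u a j) (avec u a (k - n)) = 0 :=
      gram_zero' hp _ _ (by linarith) (by linarith)
    have hxw : Cfsg.sympForm n F (avec u a j) (avec u a m) = 0 :=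
      gram_zero' hp _ _ (by linarith) (by linarith)
    have hyw : Cfsg.sympForm n F (avec u a k) (avec u a m) = 0 :=
      gram_zero' hp _ _ (by linarith) (by linarith)
    have hrel := Cfsg.Agent.Lib.Helper25.SpReg.sig_sig_rel (avec u a j) (avec u a k)
      (avec u a (k - n)) (avec u a m) hxy hzw hxz hxw hyw s t
    have hone : Cfsg.sympForm n F (avec u a k) (avec u a (k - n)) = -1 := by
      have := gram_neg_one hp (k - n)
      rwa [sub_add_cancel] at this
    rw [hone] at hrel
    have e1 : -(s * t * (-1 : F)) = s * t := by ring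
    rw [e1] at hrel
    exact hrel

theorem rootSys_T (hp : GoodPair u a) (k : ℤ) (s : F) :
    (rootSys hp).T k s = tauE (avec u a k) s := rfl

theorem rootSys_S (hp : GoodPair u a) (j k : ℤ) (s : F) :
    (rootSys hp).S j k s = sigE (avec u a j) (avec u a k) s := rfl

theorem rootSys_sh (hp : GoodPair u a) (x : Matrix.symplecticGroup (Fin n) F) :
    (rootSys hp).sh x = u * x * u⁻¹ := rfl

end

end Cfsg.Agent.Lib.Helper53.SpReg
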