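import Cfsg.Agent.Lib.Helper53.SpReg.Inst

set_option autoImplicit false

/-!
helper53, S2281: the hypotheses `Gen` for the subgroup generated by the three conjugates
(hedge of [INST], second half).
-/

namespace Cfsg.Agent.Lib.Helper53.SpReg

open Matrix

variable {n : ℕ} {F : Type*} [Field F]
variable {u : Matrix.symplecticGroup (Fin n) F} {a : Fin n ⊕ Fin n → F}

theorem shz_eq (hp : GoodPair u a) (m : ℤ) (x : Matrix.symplecticGroup (Fin n) F) :
    (rootSys hp).shz m x = u ^ m * x * (u ^ m)⁻¹ := by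
  unfold RootSys.shz
  have : ((rootSys hp).sh : MulAut (Matrix.symplecticGroup (Fin n) F)) = MulAut.conj u := rfl
  rw [this, ← map_zpow, MulAut.conj_apply]

/-- if `u` and `g u g⁻¹` are in `K` then `g (u^r g⁻¹ u^(-r)) ∈ K` -/
theorem conj_comm_mem (K : Subgroup (Matrix.symplecticGroup (Fin n) F))
    (g : Matrix.symplecticGroup (Fin n) F) (hu : u ∈ K) (hg : g * u * g⁻¹ ∈ K) (r : ℤ) :
    g * (u ^ r * g⁻¹ * (u ^ r)⁻¹) ∈ K := by
  have h1 : g * u ^ r * g⁻¹ ∈ K := by
    rw [← conj_zpow]; exact K.zpow_mem hg r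
  have h2 : (u ^ r)⁻¹ ∈ K := K.inv_mem (K.zpow_mem hu r)
  have : g * (u ^ r * g⁻¹ * (u ^ r)⁻¹) = g * u ^ r * g⁻¹ * (u ^ r)⁻¹ := by group
  rw [this]; exact K.mul_mem h1 h2

/-- [INST] the three conjugates give the hypotheses `Gen` -/
theorem gen_of_closure (hp : GoodPair u a) (c : F) :
    Gen (rootSys hp)
      (Subgroup.closure ({u, tauE a c * u * (tauE a c)⁻¹,
        sigE a (avec u a 1) c * u * (sigE a (avec u a 1) c)⁻¹} :
          Set (Matrix.symplecticGroup (Fin n) F))) c := by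
  set K := Subgroup.closure ({u, tauE a c * u * (tauE a c)⁻¹,
        sigE a (avec u a 1) c * u * (sigE a (avec u a 1) c)⁻¹} :
          Set (Matrix.symplecticGroup (Fin n) F)) with hK
  set R := rootSys hp with hR
  have hu : u ∈ K := Subgroup.subset_closure (by simp)
  have hg : tauE a c * u * (tauE a c)⁻¹ ∈ K := Subgroup.subset_closure (by simp)
  have hh : sigE a (avec u a 1) c * u * (sigE a (avec u a 1) c)⁻¹ ∈ K :=
    Subgroup.subset_closure (by simp)
  have hshz : ∀ (m : ℤ) (x : Matrix.symplecticGroup (Fin n) F), x ∈ K → R.shz m x ∈ K := by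
    intro m x hx
    rw [hR, shz_eq]
    exact K.mul_mem (K.mul_mem (K.zpow_mem hu m) hx) (K.inv_mem (K.zpow_mem hu m))
  have ha0 : avec u a 0 = a := Cfsg.Agent.Lib.Helper11.SpReg.avec_zero u a
  have hT0 : R.T 0 c = tauE a c := by rw [hR, rootSys_T, ha0]
  have hS0 : R.S 0 1 c = sigE a (avec u a 1) c := by rw [hR, rootSys_S, ha0]
  refine ⟨?_, ?_, ?_⟩
  · intro x
    rw [hR, rootSys_sh]
    constructor
    · intro hx
      have : x = u⁻¹ * (u * x * u⁻¹) * u := by group
      rw [this]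
      exact K.mul_mem (K.mul_mem (K.inv_mem hu) hx) hu
    · intro hx
      exact K.mul_mem (K.mul_mem hu hx) (K.inv_mem hu)
  · intro j k
    have h1 := conj_comm_mem K (tauE a c) hu hg (j - k)
    rw [← hT0, ← R.T_neg, ← shz_eq hp, ← hR, R.shz_T] at h1
    have h2 := hshz k _ h1
    rw [map_mul, R.shz_T, R.shz_T] at h2
    have e1 : (0 : ℤ) + k = k := by ring
    have e2 : (0 : ℤ) + (j - k) + k = j := by ring
    rwa [e1, e2] at h2
  · intro j k
    have h1 := conj_comm_mem K (sigE a (avec u a 1) c) hu hh (j - k)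
    rw [← hS0, ← R.S_neg, ← shz_eq hp, ← hR, R.shz_S] at h1
    have h2 := hshz k _ h1
    rw [map_mul, R.shz_S, R.shz_S] at h2
    have e1 : (0 : ℤ) + k = k := by ring
    have e2 : (1 : ℤ) + k = k + 1 := by ring
    have e3 : (0 : ℤ) + (j - k) + k = j := by ring
    have e4 : (1 : ℤ) + (j - k) + k = j + 1 := by ring
    rwa [e1, e2, e3, e4] at h2

end Cfsg.Agent.Lib.Helper53.SpReg
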