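import Cfsg.Agent.Lib.Helper53.SpReg.Abs
import Cfsg.Agent.Lib.Helper53.SpReg.Abs2
import Cfsg.Agent.Lib.Helper53.SpReg.InstGen
import Cfsg.Agent.Lib.Helper86.SpRegEnd
import Cfsg.Agent.Lib.Helper11.SpRegCons
import Cfsg.Agent.Lib.Helper11.SpRegReg

set_option autoImplicit false

/-!
helper53, S2281: `Sp_2n(F)` is generated by three conjugate regular unipotent elements
(final assembly).
-/

namespace Cfsg.Agent.Lib.Helper53.SpReg

open Matrix

variable {F : Type*} [Field F] [Fintype F]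

/-- [PACK] -/
theorem sp_three_conj (n : ℕ) (hn : 2 ≤ n) (h22 : ¬ (n = 2 ∧ Fintype.card F = 2)) :
    ∃ u g h : Matrix.symplecticGroup (Fin n) F,
      IsNilpotent ((u : Matrix (Fin n ⊕ Fin n) (Fin n ⊕ Fin n) F) - 1) ∧
      ((u : Matrix (Fin n ⊕ Fin n) (Fin n ⊕ Fin n) F) - 1) ^ (2 * n - 1) ≠ 0 ∧
      Subgroup.closure ({u, g * u * g⁻¹, h * u * h⁻¹} :
        Set (Matrix.symplecticGroup (Fin n) F)) = ⊤ := by
  classical
  obtain ⟨ζu, hζu⟩ := IsCyclic.exists_monoid_generator (α := Fˣ)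
  set c : F := (ζu : F) with hc
  have hc0 : c ≠ 0 := ζu.ne_zero
  have hgen : ∀ y : F, y ≠ 0 → ∃ j : ℕ, y = c ^ j := by
    intro y hy
    obtain ⟨k, hk⟩ := (Submonoid.mem_powers_iff _ _).mp (hζu (Units.mk0 y hy))
    refine ⟨k, ?_⟩
    rw [hc, ← Units.val_pow_eq_pow_val, hk]
    rfl
  set u : Matrix.symplecticGroup (Fin n) F :=
    ⟨uMat n F, Cfsg.Agent.Lib.Helper11.SpReg.uMat_mem n⟩ with hu
  have hp : GoodPair u (aVec n F) := Cfsg.Agent.Lib.Helper11.SpReg.goodPair_uMat (by omega)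
  refine ⟨u, tauE (aVec n F) c, sigE (aVec n F) (avec u (aVec n F) 1) c,
    Cfsg.Agent.Lib.Helper11.SpReg.uMat_nilp n,
    Cfsg.Agent.Lib.Helper11.SpReg.reg_of_goodPair (by omega) hp, ?_⟩
  set H := Subgroup.closure ({u, tauE (aVec n F) c * u * (tauE (aVec n F) c)⁻¹,
        sigE (aVec n F) (avec u (aVec n F) 1) c * u *
          (sigE (aVec n F) (avec u (aVec n F) 1) c)⁻¹} :
        Set (Matrix.symplecticGroup (Fin n) F)) with hH
  have hG : Gen (rootSys hp) H c := gen_of_closure hp c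
  have hall : (∀ (k : ℤ) (s : F), (rootSys hp).T k s ∈ H) ∧
      (∀ (j k : ℤ), j ≠ k → |j - k| < (n : ℤ) → ∀ s : F, (rootSys hp).S j k s ∈ H) := by
    rcases Nat.lt_or_ge n 3 with h3 | h3
    · obtain rfl : n = 2 := by omega
      have hF : Fintype.card F ≠ 2 := fun h => h22 ⟨rfl, h⟩
      exact all_mem_of_gen2 hF c hc0 hgen (rootSys hp) H hG
    · exact all_mem_of_gen3 h3 c hc0 hgen (rootSys hp) H hG
  exact Cfsg.Agent.Lib.Helper86.SpReg.eq_top_of_roots hp H hall.1 hall.2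

end Cfsg.Agent.Lib.Helper53.SpReg
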