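import Cfsg.Agent.Lib.Helper53.SpReg.Pack
import Cfsg.Agent.Lib.Helper53.SpReg.Hyp
import Cfsg.Agent.Lib.Helper93.SpRegCalcSum

set_option autoImplicit false

/-!
helper53, S2411: `Sp_2n(F)` (`n ≥ 2`, `(n,|F|) ≠ (2,2)`) is generated by two elements:
the regular unipotent `u` of S2281 and `y = s * τ_a(c)`, where `s` has order `2` (odd
characteristic) or `3` (characteristic `2`), fixes `a` (hence commutes with `τ_a(c)`) and
maps `a_1 = u a` to `a - a_1`, resp. to `a_{1-n} + a_{2-n}`.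
-/

namespace Cfsg.Agent.Lib.Helper53.SpReg

open Matrix Cfsg.Agent.Lib.Helper13

variable {n : ℕ} {F : Type*} [Field F]

local notation "Vn" => Fin n ⊕ Fin n → F
local notation "Bf" => Cfsg.sympForm n F
local notation "Spn" => Matrix.symplecticGroup (Fin n) F

theorem tauE_zero_param (x : Vn) : (tauE x 0 : Spn) = 1 := by
  apply sp_ext
  intro v
  rw [tauE_mulVec, one_mulVec', zero_mul, zero_smul, add_zero]

theorem tauE_pow (x : Vn) (s : F) (k : ℕ) : (tauE x s : Spn) ^ k = tauE x ((k : F) * s) := by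
  induction k with
  | zero => rw [pow_zero, Nat.cast_zero, zero_mul, tauE_zero_param]
  | succ k ih =>
    rw [pow_succ, ih, ← Cfsg.Agent.Lib.Helper14.SpReg.tauE_add]
    congr 1
    push_cast
    ring

/-- an element fixing `x` commutes with `τ_x(c)` -/
theorem commute_tauE_of_fix (g : Spn) (x : Vn) (c : F)
    (hg : (g : Matrix (Fin n ⊕ Fin n) (Fin n ⊕ Fin n) F) *ᵥ x = x) :
    Commute g (tauE x c) := by
  have h := Cfsg.Agent.Lib.Helper14.SpReg.conj_tauE g x c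
  rw [hg] at h
  unfold Commute SemiconjBy
  calc g * tauE x c = g * tauE x c * g⁻¹ * g := by group
    _ = tauE x c * g := by rw [h]

section gen

variable {u : Matrix.symplecticGroup (Fin n) F} {a : Fin n ⊕ Fin n → F}

/-- the hypotheses `Gen` for a subgroup containing `u`, `τ_a(c)` and `σ_{a,ua}(c)` -/
theorem gen_of_mem (hp : GoodPair u a) (H : Subgroup Spn) (c : F) (hu : u ∈ H)
    (hT : (rootSys hp).T 0 c ∈ H) (hS : (rootSys hp).S 0 1 c ∈ H) :
    Gen (rootSys hp) H c := by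
  set R := rootSys hp with hR
  have hshz : ∀ (m : ℤ) (x : Spn), x ∈ H → R.shz m x ∈ H := by
    intro m x hx
    rw [hR, shz_eq]
    exact H.mul_mem (H.mul_mem (H.zpow_mem hu m) hx) (H.inv_mem (H.zpow_mem hu m))
  have hTk : ∀ k : ℤ, R.T k c ∈ H := by
    intro k
    have h := hshz k _ hT
    rwa [R.shz_T, zero_add] at h
  have hSk : ∀ k : ℤ, R.S k (k + 1) c ∈ H := by
    intro k
    have h := hshz k _ hS
    rw [R.shz_S, zero_add] at h
    have e : (1 : ℤ) + k = k + 1 := by ring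
    rwa [e] at h
  refine ⟨?_, ?_, ?_⟩
  · intro x
    rw [hR, rootSys_sh]
    constructor
    · intro hx
      have : x = u⁻¹ * (u * x * u⁻¹) * u := by group
      rw [this]
      exact H.mul_mem (H.mul_mem (H.inv_mem hu) hx) hu
    · intro hx
      exact H.mul_mem (H.mul_mem hu hx) (H.inv_mem hu)
  · intro j k
    rw [R.T_neg]
    exact H.mul_mem (hTk k) (H.inv_mem (hTk j))
  · intro j k
    rw [R.S_neg]
    exact H.mul_mem (hSk k) (H.inv_mem (hSk j))

variable [Fintype F]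

/-- a subgroup containing `u`, `τ_a(c)` and `σ_{a,ua}(c)`, `c` a generator of `Fˣ`, is everything -/
theorem top_of_mem (hn : 2 ≤ n) (h22 : ¬ (n = 2 ∧ Fintype.card F = 2)) (hp : GoodPair u a)
    (c : F) (hc0 : c ≠ 0) (hgen : ∀ y : F, y ≠ 0 → ∃ j : ℕ, y = c ^ j) (H : Subgroup Spn)
    (hu : u ∈ H) (hT : (rootSys hp).T 0 c ∈ H) (hS : (rootSys hp).S 0 1 c ∈ H) : H = ⊤ := by
  have hG : Gen (rootSys hp) H c := gen_of_mem hp H c hu hT hS
  have hall : (∀ (k : ℤ) (s : F), (rootSys hp).T k s ∈ H) ∧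
      (∀ (j k : ℤ), j ≠ k → |j - k| < (n : ℤ) → ∀ s : F, (rootSys hp).S j k s ∈ H) := by
    rcases Nat.lt_or_ge n 3 with h3 | h3
    · obtain rfl : n = 2 := by omega
      have hF : Fintype.card F ≠ 2 := fun h => h22 ⟨rfl, h⟩
      exact all_mem_of_gen2 hF c hc0 hgen (rootSys hp) H hG
    · exact all_mem_of_gen3 h3 c hc0 hgen (rootSys hp) H hG
  exact Cfsg.Agent.Lib.Helper86.SpReg.eq_top_of_roots hp H hall.1 hall.2

end gen

section main

variable [Fintype F]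
variable {u : Matrix.symplecticGroup (Fin n) F} {a : Fin n ⊕ Fin n → F}

omit [Fintype F] in
/-- all `τ_{a_k}(c)` lie in a subgroup containing `u` and `τ_a(c)` -/
theorem tau_avec_mem (H : Subgroup Spn) (c : F) (hu : u ∈ H) (hg : (tauE a c : Spn) ∈ H) (k : ℤ) :
    (tauE (avec u a k) c : Spn) ∈ H := by
  have h : (u ^ k * tauE a c * (u ^ k)⁻¹ : Spn) ∈ H :=
    H.mul_mem (H.mul_mem (H.zpow_mem hu k) hg) (H.inv_mem (H.zpow_mem hu k))
  rw [Cfsg.Agent.Lib.Helper14.SpReg.conj_tauE] at h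
  exact h

/-- odd characteristic -/
theorem two_gen_odd (hn : 2 ≤ n) (h22 : ¬ (n = 2 ∧ Fintype.card F = 2)) (hp : GoodPair u a)
    (h2 : (2 : F) ≠ 0) (c : F) (hc0 : c ≠ 0) (hgen : ∀ y : F, y ≠ 0 → ∃ j : ℕ, y = c ^ j) :
    ∃ y : Spn, Subgroup.closure ({u, y} : Set Spn) = ⊤ := by
  classical
  have hnZ : (2 : ℤ) ≤ (n : ℤ) := by exact_mod_cast hn
  have ha0 : avec u a 0 = a := Cfsg.Agent.Lib.Helper11.SpReg.avec_zero u a
  set a1 : Vn := avec u a 1 with ha1
  set am : Vn := avec u a (1 - (n : ℤ)) with ham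
  have g01 : Bf a a1 = 0 := by
    have h := gram_zero' hp 0 1 (by omega) (by omega)
    rwa [ha0] at h
  have g10 : Bf a1 a = 0 := by rw [sympForm_swap, g01, neg_zero]
  have g0m : Bf a am = 0 := by
    have h := gram_zero' hp 0 (1 - (n : ℤ)) (by omega) (by omega)
    rwa [ha0] at h
  have g1m : Bf a1 am = -1 := by
    have h := gram_neg_one hp (1 - (n : ℤ))
    have e : (1 - (n : ℤ)) + n = 1 := by ring
    rwa [e] at h
  have h21 : (2 : F)⁻¹ * 2 = 1 := inv_mul_cancel₀ h2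
  set w : Vn := a - (2 : F) • a1 with hw
  set w' : Vn := (2 : F)⁻¹ • am with hw'
  have hww' : Bf w w' = 1 := by
    rw [hw, hw']
    simp only [sympForm_sub_left, sympForm_smul_left, sympForm_smul_right, g0m, g1m]
    linear_combination h21
  have haw : Bf a w = 0 := by
    rw [hw]
    simp only [sympForm_sub_right, sympForm_smul_right, sympForm_self, g01]
    ring
  have haw' : Bf a w' = 0 := by
    rw [hw']
    simp only [sympForm_smul_right, g0m]
    ring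
  have ha1w : Bf a1 w = 0 := by
    rw [hw]
    simp only [sympForm_sub_right, sympForm_smul_right, sympForm_self, g10]
    ring
  have ha1w' : Bf a1 w' = -(2 : F)⁻¹ := by
    rw [hw']
    simp only [sympForm_smul_right, g1m]
    ring
  set s : Spn := hypE w w' hww' (-1) 0 0 (-1) (by ring) with hs
  have hs0 : (s : Matrix (Fin n ⊕ Fin n) (Fin n ⊕ Fin n) F) *ᵥ a = a :=
    hypE_fix w w' hww' (-1) 0 0 (-1) (by ring) a haw haw'
  have hs1 : (s : Matrix (Fin n ⊕ Fin n) (Fin n ⊕ Fin n) F) *ᵥ a1 = a + (-1 : F) • a1 := by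
    rw [hs, hypE_mulVec, ha1w, ha1w', hw]
    ext i
    simp only [Pi.add_apply, Pi.sub_apply, Pi.smul_apply, smul_eq_mul]
    linear_combination (a i - 2 * a1 i) * h21
  have hss : s * s = 1 := by
    apply sp_ext
    intro v
    rw [mul_mulVec, one_mulVec']
    rw [hs, hypE_mulVec w w' hww' (-1) 0 0 (-1) (by ring)
      ((hypE w w' hww' (-1) 0 0 (-1) (by ring) : Spn).1 *ᵥ v)]
    rw [hypE_form_w', hypE_form_w, hypE_mulVec]
    module
  set g : Spn := tauE a c with hg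
  have hcomm : Commute s g := commute_tauE_of_fix s a c hs0
  refine ⟨s * g, ?_⟩
  set H := Subgroup.closure ({u, s * g} : Set Spn) with hH
  have hu : u ∈ H := Subgroup.subset_closure (by simp)
  have hy : s * g ∈ H := Subgroup.subset_closure (by simp)
  -- the characteristic
  set p := ringChar F with hpdef
  have hCh : CharP F p := ringChar.charP F
  have hpp : p.Prime := CharP.char_is_prime F p
  have hp2 : p ≠ 2 := by
    intro h
    apply h2
    have h0 : ((p : ℕ) : F) = 0 := CharP.cast_eq_zero F p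
    rw [h] at h0
    exact_mod_cast h0
  obtain ⟨k, hk⟩ : ∃ k, p = 2 * k + 1 := by
    rcases hpp.eq_two_or_odd' with h | h
    · exact absurd h hp2
    · exact h
  have hgp : g ^ p = 1 := by
    rw [hg, tauE_pow, CharP.cast_eq_zero F p, zero_mul, tauE_zero_param]
  have hsp : s ^ p = s := by
    rw [hk, pow_succ, pow_mul, pow_two, hss, one_pow, one_mul]
  have hsH : s ∈ H := by
    have h := H.pow_mem hy p
    rwa [hcomm.mul_pow, hgp, hsp, mul_one] at h
  have hgH : g ∈ H := by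
    have h : s⁻¹ * (s * g) ∈ H := H.mul_mem (H.inv_mem hsH) hy
    rwa [inv_mul_cancel_left] at h
  have hT1 : (tauE a1 c : Spn) ∈ H := tau_avec_mem H c hu hgH 1
  have hconj : (tauE (a + (-1 : F) • a1) c : Spn) ∈ H := by
    have h : s * tauE a1 c * s⁻¹ ∈ H := H.mul_mem (H.mul_mem hsH hT1) (H.inv_mem hsH)
    rwa [Cfsg.Agent.Lib.Helper14.SpReg.conj_tauE, hs1] at h
  have horth : Bf a ((-1 : F) • a1) = 0 := by
    rw [sympForm_smul_right, g01, mul_zero]
  have hS : (sigE a a1 (-c) : Spn) ∈ H := by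
    have e := Cfsg.Agent.Lib.Helper93.SpReg.tauE_add_vec a ((-1 : F) • a1) horth c
    rw [Cfsg.Agent.Lib.Helper93.SpReg.tauE_smul_vec,
      Cfsg.Agent.Lib.Helper14.SpReg.sigE_symm a ((-1 : F) • a1),
      Cfsg.Agent.Lib.Helper93.SpReg.sigE_smul_vec,
      Cfsg.Agent.Lib.Helper14.SpReg.sigE_symm a1 a] at e
    have e1 : (-1 : F) ^ 2 * c = c := by ring
    have e2 : (-1 : F) * c = -c := by ring
    rw [e1, e2] at e
    have h : (tauE a c * tauE a1 c : Spn)⁻¹ * tauE (a + (-1 : F) • a1) c ∈ H :=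
      H.mul_mem (H.inv_mem (H.mul_mem hgH hT1)) hconj
    rwa [e, inv_mul_cancel_left] at h
  have hT0 : (rootSys hp).T 0 c ∈ H := by
    rw [rootSys_T, ha0]; exact hgH
  have hS0 : (rootSys hp).S 0 1 c ∈ H := by
    have h : (rootSys hp).S 0 1 (-c) ∈ H := by
      rw [rootSys_S, ha0]; exact hS
    rw [(rootSys hp).S_neg] at h
    exact (H.inv_mem_iff).mp h
  exact top_of_mem hn h22 hp c hc0 hgen H hu hT0 hS0

/-- characteristic two -/
theorem two_gen_two (hn : 2 ≤ n) (h22 : ¬ (n = 2 ∧ Fintype.card F = 2)) (hp : GoodPair u a)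
    (h2 : (2 : F) = 0) (c : F) (hc0 : c ≠ 0) (hgen : ∀ y : F, y ≠ 0 → ∃ j : ℕ, y = c ^ j) :
    ∃ y : Spn, Subgroup.closure ({u, y} : Set Spn) = ⊤ := by
  classical
  have hnZ : (2 : ℤ) ≤ (n : ℤ) := by exact_mod_cast hn
  have ha0 : avec u a 0 = a := Cfsg.Agent.Lib.Helper11.SpReg.avec_zero u a
  set a1 : Vn := avec u a 1 with ha1
  set b1 : Vn := avec u a (1 - (n : ℤ)) with hb1
  set b2 : Vn := avec u a (2 - (n : ℤ)) with hb2
  have g01 : Bf a a1 = 0 := by
    have h := gram_zero' hp 0 1 (by omega) (by omega)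
    rwa [ha0] at h
  have g0b1 : Bf a b1 = 0 := by
    have h := gram_zero' hp 0 (1 - (n : ℤ)) (by omega) (by omega)
    rwa [ha0] at h
  have g0b2 : Bf a b2 = 0 := by
    have h := gram_zero' hp 0 (2 - (n : ℤ)) (by omega) (by omega)
    rwa [ha0] at h
  have g1b1 : Bf a1 b1 = -1 := by
    have h := gram_neg_one hp (1 - (n : ℤ))
    have e : (1 - (n : ℤ)) + n = 1 := by ring
    rwa [e] at h
  have g1b2 : Bf a1 b2 = 0 := gram_zero' hp 1 (2 - (n : ℤ)) (by omega) (by omega)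
  have gb1b2 : Bf b1 b2 = 0 := gram_zero' hp (1 - (n : ℤ)) (2 - (n : ℤ)) (by omega) (by omega)
  have hm1 : (-1 : F) = 1 := by linear_combination (-1 : F) * h2
  have hww' : Bf a1 (b1 + b2) = 1 := by
    rw [sympForm_add_right, g1b1, g1b2, add_zero, hm1]
  have hdet : (0 : F) * 1 - 1 * 1 = 1 := by linear_combination (-1 : F) * h2
  set s : Spn := hypE a1 (b1 + b2) hww' 0 1 1 1 hdet with hs
  have haw' : Bf a (b1 + b2) = 0 := by
    rw [sympForm_add_right, g0b1, g0b2, add_zero]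
  have hs0 : (s : Matrix (Fin n ⊕ Fin n) (Fin n ⊕ Fin n) F) *ᵥ a = a :=
    hypE_fix a1 (b1 + b2) hww' 0 1 1 1 hdet a g01 haw'
  have hs1 : (s : Matrix (Fin n ⊕ Fin n) (Fin n ⊕ Fin n) F) *ᵥ a1 = b1 + b2 := by
    rw [hs, hypE_mulVec, sympForm_self, hww']
    module
  have e1 : ∀ x : Vn, (s : Matrix (Fin n ⊕ Fin n) (Fin n ⊕ Fin n) F) *ᵥ x =
      x + Bf x (b1 + b2) • (((0 : F) - 1) • a1 + (1 : F) • (b1 + b2)) -
        Bf x a1 • ((1 : F) • a1 + ((1 : F) - 1) • (b1 + b2)) :=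
    fun x => hypE_mulVec a1 (b1 + b2) hww' 0 1 1 1 hdet x
  have f1 : ∀ x : Vn, Bf ((s : Matrix (Fin n ⊕ Fin n) (Fin n ⊕ Fin n) F) *ᵥ x) (b1 + b2) =
      0 * Bf x (b1 + b2) - 1 * Bf x a1 :=
    fun x => hypE_form_w' a1 (b1 + b2) hww' 0 1 1 1 hdet x
  have f2 : ∀ x : Vn, Bf ((s : Matrix (Fin n ⊕ Fin n) (Fin n ⊕ Fin n) F) *ᵥ x) a1 =
      1 * Bf x a1 - 1 * Bf x (b1 + b2) :=
    fun x => hypE_form_w a1 (b1 + b2) hww' 0 1 1 1 hdet x
  have hsss : s * s * s = 1 := by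
    apply sp_ext
    intro v
    rw [mul_mulVec, mul_mulVec, one_mulVec']
    rw [e1 ((s : Matrix (Fin n ⊕ Fin n) (Fin n ⊕ Fin n) F) *ᵥ
      ((s : Matrix (Fin n ⊕ Fin n) (Fin n ⊕ Fin n) F) *ᵥ v)),
      f1 ((s : Matrix (Fin n ⊕ Fin n) (Fin n ⊕ Fin n) F) *ᵥ v),
      f2 ((s : Matrix (Fin n ⊕ Fin n) (Fin n ⊕ Fin n) F) *ᵥ v),
      e1 ((s : Matrix (Fin n ⊕ Fin n) (Fin n ⊕ Fin n) F) *ᵥ v), f1 v, f2 v, e1 v]
    generalize Bf v (b1 + b2) = α
    generalize Bf v a1 = β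
    ext i
    simp only [Pi.add_apply, Pi.sub_apply, Pi.smul_apply, smul_eq_mul]
    linear_combination ((α - β) * (-(a1 i) + (b1 i + b2 i)) - (2 * β - α) * a1 i) * h2
  set g : Spn := tauE a c with hg
  have hcomm : Commute s g := commute_tauE_of_fix s a c hs0
  refine ⟨s * g, ?_⟩
  set H := Subgroup.closure ({u, s * g} : Set Spn) with hH
  have hu : u ∈ H := Subgroup.subset_closure (by simp)
  have hy : s * g ∈ H := Subgroup.subset_closure (by simp)
  have hg3 : g ^ 3 = g := by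
    rw [hg, tauE_pow]
    congr 1
    push_cast
    linear_combination c * h2
  have hs3 : s ^ 3 = 1 := by
    rw [pow_succ, pow_succ, pow_one, hsss]
  have hgH : g ∈ H := by
    have h := H.pow_mem hy 3
    rwa [hcomm.mul_pow, hs3, hg3, one_mul] at h
  have hsH : s ∈ H := by
    have h : s * g * g⁻¹ ∈ H := H.mul_mem hy (H.inv_mem hgH)
    rwa [mul_inv_cancel_right] at h
  have hT1 : (tauE a1 c : Spn) ∈ H := tau_avec_mem H c hu hgH 1
  have hTb1 : (tauE b1 c : Spn) ∈ H := tau_avec_mem H c hu hgH (1 - (n : ℤ))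
  have hTb2 : (tauE b2 c : Spn) ∈ H := tau_avec_mem H c hu hgH (2 - (n : ℤ))
  have hconj : (tauE (b1 + b2) c : Spn) ∈ H := by
    have h : s * tauE a1 c * s⁻¹ ∈ H := H.mul_mem (H.mul_mem hsH hT1) (H.inv_mem hsH)
    rwa [Cfsg.Agent.Lib.Helper14.SpReg.conj_tauE, hs1] at h
  have hS : (sigE b1 b2 c : Spn) ∈ H := by
    have e := Cfsg.Agent.Lib.Helper93.SpReg.tauE_add_vec b1 b2 gb1b2 c
    have h : (tauE b1 c * tauE b2 c : Spn)⁻¹ * tauE (b1 + b2) c ∈ H :=
      H.mul_mem (H.inv_mem (H.mul_mem hTb1 hTb2)) hconj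
    rwa [e, inv_mul_cancel_left] at h
  have hS01 : (sigE a a1 c : Spn) ∈ H := by
    have h : u ^ ((n : ℤ) - 1) * sigE b1 b2 c * (u ^ ((n : ℤ) - 1))⁻¹ ∈ H :=
      H.mul_mem (H.mul_mem (H.zpow_mem hu _) hS) (H.inv_mem (H.zpow_mem hu _))
    rw [Cfsg.Agent.Lib.Helper14.SpReg.conj_sigE, hb1, hb2,
      Cfsg.Agent.Lib.Helper11.SpReg.avec_zpow, Cfsg.Agent.Lib.Helper11.SpReg.avec_zpow] at h
    have i1 : (1 - (n : ℤ)) + ((n : ℤ) - 1) = 0 := by ring
    have i2 : (2 - (n : ℤ)) + ((n : ℤ) - 1) = 1 := by ring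
    rwa [i1, i2, ha0] at h
  have hT0 : (rootSys hp).T 0 c ∈ H := by
    rw [rootSys_T, ha0]; exact hgH
  have hS0 : (rootSys hp).S 0 1 c ∈ H := by
    rw [rootSys_S, ha0]; exact hS01
  exact top_of_mem hn h22 hp c hc0 hgen H hu hT0 hS0

/-- `Sp_2n(F)` is generated by two elements -/
theorem sp_two_gen (hn : 2 ≤ n) (h22 : ¬ (n = 2 ∧ Fintype.card F = 2)) :
    ∃ x y : Spn, Subgroup.closure ({x, y} : Set Spn) = ⊤ := by
  classical
  obtain ⟨ζu, hζu⟩ := IsCyclic.exists_monoid_generator (α := Fˣ)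
  set c : F := (ζu : F) with hc
  have hc0 : c ≠ 0 := ζu.ne_zero
  have hgen : ∀ y : F, y ≠ 0 → ∃ j : ℕ, y = c ^ j := by
    intro y hy
    obtain ⟨k, hk⟩ := (Submonoid.mem_powers_iff _ _).mp (hζu (Units.mk0 y hy))
    refine ⟨k, ?_⟩
    rw [hc, ← Units.val_pow_eq_pow_val, hk]
    rfl
  set u : Spn := ⟨uMat n F, Cfsg.Agent.Lib.Helper11.SpReg.uMat_mem n⟩ with hu
  have hp : GoodPair u (aVec n F) := Cfsg.Agent.Lib.Helper11.SpReg.goodPair_uMat (by omega)
  by_cases h2 : (2 : F) = 0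
  · obtain ⟨y, hy⟩ := two_gen_two hn h22 hp h2 c hc0 hgen
    exact ⟨u, y, hy⟩
  · obtain ⟨y, hy⟩ := two_gen_odd hn h22 hp h2 c hc0 hgen
    exact ⟨u, y, hy⟩

end main

end Cfsg.Agent.Lib.Helper53.SpReg
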